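import Cfsg.Agent.H51.E6Max.Cert
import Cfsg.Agent.H51.E6Max.La.Data
import Cfsg.Agent.H51.E6Max.Lb.Data
import Cfsg.Agent.H51.E6Max.Le.Data
import Cfsg.Agent.H51.E6Max.LS.Data
/-! Kernel checks of the certificate. -/

set_option autoImplicit false
set_option maxRecDepth 100000
set_option maxHeartbeats 0

namespace H51.E6Max.LS

open H60.TE6 H51.E6Max

/-- The coded trace. -/
def trB (A : Nat) : Nat := (List.range 78).foldl (fun s i => s ^^^ ent A i i) 0

/-- Exponent pairs of the elements of trace zero. -/
def inT (i j : Nat) : Bool :=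
  [(1, 0), (1, 1), (1, 2), (1, 4)].any fun q => (List.range 7).any fun k =>
    (k * q.1) % 7 == i && (k * q.2) % 7 == j

theorem nw_lt : ∀ a ∈ nw, a < 16 := by decide +kernel

theorem niw_lt : ∀ a ∈ niw, a < 16 := by decide +kernel

theorem n_eq : evL (lw nw) idY = NM := by decide +kernel

theorem ni_eq : evL (lw niw) idY = NI := by decide +kernel

theorem n_inv : mulP NM NI = idY := by decide +kernel

theorem ni_inv : mulP NI NM = idY := by decide +kernel

theorem n_a : mulP NM La.X = mulP La.X NM := by decide +kernel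

theorem n_b : mulP NM Lb.X = mulP (Lb.Xs.getD 2 0) NM := by decide +kernel

theorem ab_comm : mulP La.X Lb.X = mulP Lb.X La.X := by decide +kernel

theorem ab_ne : ((List.range 7).all fun i => H48.E6Max.nzB (La.Xs.getD i 0 ^^^ Lb.X)) = true := by decide +kernel

theorem a_ne : H48.E6Max.nzB (La.X ^^^ idY) = true := by decide +kernel

theorem q2_eq : mulP Le.WQ NI = Q2 := by decide +kernel

theorem q4_eq : mulP Q2 NI = Q4 := by decide +kernel

theorem s_zero : mulP SQ SB = 0 := by decide +kernel

theorem s_split : mulP SR SQ ^^^ mulP SB SC = idY := by decide +kernel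

theorem s_a : mulP La.WQ SB = 0 := by decide +kernel

theorem s_e : mulP Le.WQ SB = 0 := by decide +kernel

theorem s_2 : mulP Q2 SB = 0 := by decide +kernel

theorem s_4 : mulP Q4 SB = 0 := by decide +kernel

theorem s_sum : mulP ST0 La.WQ ^^^ (mulP ST1 Le.WQ ^^^ (mulP ST2 Q2 ^^^ mulP ST3 Q4)) = SQ := by decide +kernel

theorem traces : ((List.range 7).all fun i => (List.range 7).all fun j => (i == 0 && j == 0) || ((trB (mulP (La.Xs.getD i 0) (Lb.Xs.getD j 0)) == 0) == inT i j)) = true := by decide +kernel

theorem hw_lt : ∀ a ∈ hw, a < 16 := by decide +kernel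

theorem h_eq : evL (lw hw) idY = HM := by decide +kernel

theorem h_sq : mulP HM HM = idY := by decide +kernel

theorem h_stab : mulP SQ (mulP HM SB) = 0 := by decide +kernel

theorem h_out : ((List.range 7).all fun i => (List.range 7).all fun j => H48.E6Max.nzB (mulP (mulP HM La.X) HM ^^^ mulP (La.Xs.getD i 0) (Lb.Xs.getD j 0))) = true := by decide +kernel

theorem gw_lt : ∀ a ∈ gw, a < 16 := by decide +kernel

theorem g_eq : evL (lw gw) idY = GM := by decide +kernel

theorem g_move : H48.E6Max.nzB (mulP SQ (mulP GM SB)) = true := by decide +kernel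

end H51.E6Max.LS
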